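import Cfsg.Agent.Lib.PermComp.Core

/-! Data on `275` points for the triple cover of `McL`. -/

set_option autoImplicit false

namespace Cfsg.Agent.Lib.McLCov.Tab

open _root_.Cfsg.Agent.Lib.PermComp

def d_n : Nat := nat_lit 275
def d_w : Nat := nat_lit 9
def d_mask : Nat := nat_lit 511
def d_L : Nat := nat_lit 2475
def d_maskL : Nat := nat_lit 0x7ffffffffffffffffffffffffffffffffffffffffffffffffffffffffffffffffffffffffffffffffffffffffffffffffffffffffffffffffffffffffffffffffffffffffffffffffffffffffffffffffffffffffffffffffffffffffffffffffffffffffffffffffffffffffffffffffffffffffffffffffffffffffffffffffffffffffffffffffffffffffffffffffffffffffffffffffffffffffffffffffffffffffffffffffffffffffffffffffffffffffffffffffffffffffffffffffffffffffffffffffffffffffffffffffffffffffffffffffffffffffffffffffffffffffffffffffffffffffffffffffffffffffffffffffffffffffffffffffffffffffffffffffffffffffffffffffffffffffffffffffffffffffffffffffffffffffffffffffffffffffffffffffffffffffff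
def d_idc : Nat := nat_lit 0x44a231087c3a1b0c85c2a130883c1a0b0481c0a03007fbf9fafc7dbe9f2f87bbd9eaf479bc9e2f077bb9daec75ba9d2e873b99cae471b89c2e06fb79badc6db69b2d86bb59aad469b49a2d067b399acc65b2992c863b198ac461b0982c05faf97abc5dae972b85bad96ab459ac962b057ab95aac55aa952a853a994aa451a8942a04fa793a9c4da6932984ba592a9449a49229047a391a8c45a29128843a190a8441a0902803f9f8fa7c3d9e8f2783b9d8ea74399c8e270379b8da6c359a8d26833998ca6431988c2602f978ba5c2d968b2582b958aa5429948a250279389a4c259289248239188a442190882401f8f87a3c1d8e872381b8d86a34198c86230178b85a2c158a85228138984a241188842200f8783a1c0d86832180b8582a14098482210078381a0c058281208038180a04018080200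
def d_T : List Nat := [nat_lit 0x211d10c3b819deae398ccb2363901ce2e72a984306a3387d3ed260319930963aa4f8472bc2df4e68402d76932e1d8d0f688be1b70287c41f2ba37c35067845add32d16bbc05ea37e1999c4029bddfcc5564293add3738882d61b86c6a1d169385821718c54c793a09d860f1f0985415263c4fe636c241305e411e8465f159c0a85b76c1dc87b2d1414504588680a4d3632102620207064580b9f860690688814de5cc1492876fa913c8a2ea482c9a7eb35f68072b31a0b51e2ad5e89102f5c02924114281e041d5c2b821244121165221886d28831fe601d93d2e010109450ee79a9d64f481a3a1cda083d4fa4a35ba9429660864ca246cc4a028f6137136bc1c0e9d6466592d4ad55f2a20c9442afdd8b459a555500502b426cf790f46864290fd0c030704888b0463a486d45b34c72564e0b91a00, nat_lit 0x30da50a39988e2a684229445948c1e0aae699d09abd73809fec085a10f2eb16889e05f35c44668b6e865c6b05f8a96e5c74265f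64c67340d4ba51bddcd017aaca1cd607c24d0b15aa9d849074901aaac5a4492c481b9b808ef0320852a0633a828637b085b0df1c0ed8e3f1803882ad43915ae1533b20fc7f331d49f0f271096d044fbf812af40a710cf15c0291ac152c3512e232034c2280baac30e12c311181d41b440e7b2eb28d9036e3b4a895881be18204926948f8291c2043942a4d98573b844566d0e3783ecd4c33d505b7e9a4aa722b181ca9d284012e2544144103a17929e6fa7a195f8c5192e44c1b5e0b1a8431f23896123e36ddcda23b246835082f9b2232302d28493c015c02e50aeca68f13c1954cb3d0c4061e1b1682c7676179e47d0986802f9120f018804daa47a4459a79c800]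
def d_prog : List (Nat × Nat × Nat) := [(nat_lit 1, nat_lit 1, nat_lit 0), (nat_lit 1, nat_lit 1, nat_lit 0), (nat_lit 0, nat_lit 0, nat_lit 0), (nat_lit 0, nat_lit 0, nat_lit 2), (nat_lit 0, nat_lit 0, nat_lit 2), (nat_lit 0, nat_lit 5, nat_lit 6), (nat_lit 0, nat_lit 0, nat_lit 7), (nat_lit 0, nat_lit 0, nat_lit 7), (nat_lit 0, nat_lit 0, nat_lit 9), (nat_lit 0, nat_lit 0, nat_lit 9), (nat_lit 0, nat_lit 0, nat_lit 10), (nat_lit 0, nat_lit 0, nat_lit 12), (nat_lit 0, nat_lit 0, nat_lit 12), (nat_lit 0, nat_lit 0, nat_lit 13), (nat_lit 0, nat_lit 9, nat_lit 0), (nat_lit 0, nat_lit 14, nat_lit 14), (nat_lit 0, nat_lit 0, nat_lit 15), (nat_lit 0, nat_lit 0, nat_lit 15), (nat_lit 0, nat_lit 0, nat_lit 17), (nat_lit 0, nat_lit 20, nat_lit 20), (nat_lit 0, nat_lit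 0, nat_lit 20), (nat_lit 0, nat_lit 0, nat_lit 22), (nat_lit 0, nat_lit 0, nat_lit 23), (nat_lit 0, nat_lit 0, nat_lit 23), (nat_lit 0, nat_lit 0, nat_lit 24), (nat_lit 0, nat_lit 0, nat_lit 26), (nat_lit 0, nat_lit 0, nat_lit 26), (nat_lit 0, nat_lit 0, nat_lit 28), (nat_lit 0, nat_lit 9, nat_lit 27), (nat_lit 0, nat_lit 0, nat_lit 28), (nat_lit 0, nat_lit 0, nat_lit 2), (nat_lit 1, nat_lit 16, nat_lit 0), (nat_lit 1, nat_lit 1, nat_lit 0), (nat_lit 0, nat_lit 18, nat_lit 2), (nat_lit 0, nat_lit 0, nat_lit 19), (nat_lit 0, nat_lit 0, nat_lit 4), (nat_lit 0, nat_lit 0, nat_lit 21), (nat_lit 0, nat_lit 0, nat_lit 22), (nat_lit 0, nat_lit 0, nat_lit 7), (nat_lit 0, nat_lit 0, nat_lit 24), (nat_lit 0, nat_lit 0, nat_lit 9), (nat_lit 0, nat_lit 0, nat_lit 10), (nat_lit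 0, nat_lit 0, nat_lit 27), (nat_lit 0, nat_lit 11, nat_lit 11), (nat_lit 0, nat_lit 0, nat_lit 11), (nat_lit 0, nat_lit 0, nat_lit 13), (nat_lit 0, nat_lit 0, nat_lit 14), (nat_lit 0, nat_lit 0, nat_lit 14), (nat_lit 0, nat_lit 0, nat_lit 5), (nat_lit 0, nat_lit 18, nat_lit 18), (nat_lit 0, nat_lit 0, nat_lit 19), (nat_lit 0, nat_lit 0, nat_lit 36), (nat_lit 0, nat_lit 0, nat_lit 21), (nat_lit 0, nat_lit 0, nat_lit 38), (nat_lit 0, nat_lit 0, nat_lit 23), (nat_lit 0, nat_lit 0, nat_lit 24), (nat_lit 0, nat_lit 17, nat_lit 25), (nat_lit 0, nat_lit 0, nat_lit 26), (nat_lit 0, nat_lit 26, nat_lit 25), (nat_lit 0, nat_lit 0, nat_lit 27), (nat_lit 0, nat_lit 0, nat_lit 28), (nat_lit 0, nat_lit 0, nat_lit 29), (nat_lit 0, nat_lit 0, nat_lit 30), (nat_lit 0, nat_lit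 0, nat_lit 30), (nat_lit 0, nat_lit 0, nat_lit 6), (nat_lit 0, nat_lit 50, nat_lit 50), (nat_lit 0, nat_lit 0, nat_lit 35), (nat_lit 0, nat_lit 0, nat_lit 36), (nat_lit 0, nat_lit 0, nat_lit 53), (nat_lit 0, nat_lit 0, nat_lit 54), (nat_lit 0, nat_lit 0, nat_lit 55), (nat_lit 0, nat_lit 0, nat_lit 56), (nat_lit 0, nat_lit 0, nat_lit 57), (nat_lit 0, nat_lit 0, nat_lit 58), (nat_lit 0, nat_lit 0, nat_lit 43), (nat_lit 0, nat_lit 29, nat_lit 42), (nat_lit 0, nat_lit 0, nat_lit 1), (nat_lit 1, nat_lit 28, nat_lit 0), (nat_lit 1, nat_lit 22, nat_lit 0), (nat_lit 1, nat_lit 2, nat_lit 0), (nat_lit 0, nat_lit 15, nat_lit 3), (nat_lit 0, nat_lit 0, nat_lit 16), (nat_lit 0, nat_lit 0, nat_lit 33), (nat_lit 0, nat_lit 0, nat_lit 6), (nat_lit 0, nat_lit 0, nat_lit 28),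 (nat_lit 0, nat_lit 0, nat_lit 29), (nat_lit 0, nat_lit 0, nat_lit 9), (nat_lit 0, nat_lit 0, nat_lit 38), (nat_lit 0, nat_lit 10, nat_lit 9), (nat_lit 0, nat_lit 0, nat_lit 1), (nat_lit 0, nat_lit 41, nat_lit 25), (nat_lit 0, nat_lit 0, nat_lit 42), (nat_lit 0, nat_lit 0, nat_lit 43), (nat_lit 0, nat_lit 0, nat_lit 44), (nat_lit 0, nat_lit 0, nat_lit 45), (nat_lit 0, nat_lit 0, nat_lit 18), (nat_lit 0, nat_lit 0, nat_lit 47), (nat_lit 0, nat_lit 0, nat_lit 32), (nat_lit 0, nat_lit 0, nat_lit 42), (nat_lit 0, nat_lit 0, nat_lit 34), (nat_lit 0, nat_lit 0, nat_lit 51), (nat_lit 0, nat_lit 23, nat_lit 21), (nat_lit 0, nat_lit 0, nat_lit 1), (nat_lit 1, nat_lit 0, nat_lit 0), (nat_lit 0, nat_lit 1, nat_lit 1), (nat_lit 0, nat_lit 0, nat_lit 2), (nat_lit 0, nat_lit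 0, nat_lit 16), (nat_lit 0, nat_lit 0, nat_lit 17), (nat_lit 0, nat_lit 0, nat_lit 5), (nat_lit 0, nat_lit 0, nat_lit 6), (nat_lit 0, nat_lit 0, nat_lit 7), (nat_lit 0, nat_lit 0, nat_lit 8), (nat_lit 0, nat_lit 8, nat_lit 0)]
def d_s0 : Nat := nat_lit 0x211d10c3b819deae398ccb2363901ce2e72a984306a3387d3ed260319930963aa4f8472bc2df4e68402d76932e1d8d0f688be1b70287c41f2ba37c35067845add32d16bbc05ea37e1999c4029bddfcc5564293add3738882d61b86c6a1d169385821718c54c793a09d860f1f0985415263c4fe636c241305e411e8465f159c0a85b76c1dc87b2d1414504588680a4d3632102620207064580b9f860690688814de5cc1492876fa913c8a2ea482c9a7eb35f68072b31a0b51e2ad5e89102f5c02924114281e041d5c2b821244121165221886d28831fe601d93d2e010109450ee79a9d64f481a3a1cda083d4fa4a35ba9429660864ca246cc4a028f6137136bc1c0e9d6466592d4ad55f2a20c9442afdd8b459a555500502b426cf790f46864290fd0c030704888b0463a486d45b34c72564e0b91a00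
def d_s1 : Nat := nat_lit 0x40e1e84853021cf55116cfcf8609414c90642860e19311edda5c84425dcf485c44cd0c7f22cf8e66e9e176ba39adc9d1053c350665823de04543a38caa9d3d239ecc779aa4ae63633888e7718a09d47d2d05dc8bf75c4a0cc282bf51ee5452d9b89a55401fe564e18140645f3b02688543c9186b6917db6b24cb44de1d498b40aae38259b44d361a5b04a0817856041226038864aad10ab06534ca439678447afc7830cd0795199d8a9f0a8cce48178ab0b27f7389c6e1b7cbbc82320c16034a5523ec9ebd5c109d28d6210c4a71202c5ac0f2601c440a11834602e0125c7e7680ae536de67324dc0b2ea4996d91c25166345694406cd743e84c613aa25c0bc6f859568025a79c214299a8542f16019ae211a87c6c3e680e95ed55ab30409104a1c903c0f0a4920e6a048da462211418281d8200200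
def d_s2 : Nat := nat_lit 0x449f04781bdded0f88289bce654269caaa863913aee76bb152eb5338de6c764319a49966b6c94a7792dd208f68b6872e27aa2980be4c3647aa16e2ed949377ab1d0fb2591498462039df84224bc1f2411e2913d0e88c3518c269ab969058540982cb84c1dfacf80215e2bd62b5dd29752b1198ea7a22d72ba6736070dd4e2fd28925026d1c9564a2156fa218ed46e06fa7c88ff7f4052cb3824216d0670b4112824220c32311204416553d9f038573b9e03a2b2d84c6e330c0d84e1a1009446743f198d86f301c0fa502ca00e4732e1682e343b014f4541307c2c632b145023f592d570d6858f8903a582195ac36ab510ebc46a4562af1686c6a0731148bc303f83ce22934028102e0200c202f0a0884215190780c0c371949a642f938d6692e824ce6a140a82479308381a2c2c1d49e6d298080200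
def d_s3 : Nat := nat_lit 0x44a1ae888bda1ef77a399f4c35d385f6e3633149701613cd731072bc5fd0c7c31e10e27cbf612ce6db5d5ccd6cac998fc8539e0b025dc2d70cb6aad5acaf54a7556a65627d4a9b45101324543a9d1e894f2487d0387321c8ff7ab120ed869acd68d482305e5066d2b554a8462392c3d4e2411aee75b79debd78301bed02634992486eb816edc5e1248e8b4d10470465190874ed763a96cbe252fdd2b021a8076843320ce8803c1dcc236379b85876339fcea68169a8b8590c06c120b1089c9c813f208fa641817cca600b9682437398c46679178a4f82a1305828631a0c83293802612e86688f1489167b2962a24aa8510941c9110a3f38954a608381a4bc5012144b658268281852390d4ba570f8742a20078780c073d1b0567b310a0d62e36894220d1183808560d150264f028883810018080200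
def d_s4 : Nat := nat_lit 0x3f2191286c39eef84cbedb6405a25e14aa643151eda482b16b1082aa5af1187b1db0ab7f411f4d984be5890085a3a0ce873395cee45cb39129e49aed3eaf77bb1a2a27734146945fb01e0a45891d6e497032878824219900702e19d02712d978d0531b060aa6a3c030f87b0d0bc464f100cc0af353bc9e2c17a30daad652bd5a88622b2c969c1f2e1d64a7490c7ea126108747e3f89024650d8b44e0a078885cf66340d510280bfd66fd83a610ecd5727524ba45331a4ed5ea2d0abe4aa68766f2ca0cb44d2817c1660089b00ea669a31849659235c63d232c072302902432df3b1e8e406712f1ba442c1d458373589850350987864158437992883b944c2632b9b4e61f15858ba5470a6d5aea67a8070dc20a4490b6371f4c8740b820424e34958c40d3c8401c1c188d0282a148744a04018080200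
noncomputable def d_lev0 : Core.Lev := Core.mkLev d_n d_w d_mask d_L d_maskL d_idc (nat_lit 1) [d_s4, d_s3, d_s2, d_s1, d_s0] [(nat_lit 141, d_s0, nat_lit 1), (nat_lit 18, d_s4, nat_lit 141), (nat_lit 182, d_s3, nat_lit 141), (nat_lit 150, d_s2, nat_lit 141), (nat_lit 133, d_s1, nat_lit 141), (nat_lit 50, d_s0, nat_lit 141), (nat_lit 86, d_s4, nat_lit 18), (nat_lit 37, d_s3, nat_lit 18), (nat_lit 9, d_s2, nat_lit 18), (nat_lit 135, d_s1, nat_lit 18), (nat_lit 63, d_s0, nat_lit 18), (nat_lit 12, d_s4, nat_lit 182), (nat_lit 173, d_s3, nat_lit 182), (nat_lit 96, d_s1, nat_lit 182), (nat_lit 39, d_s0, nat_lit 182), (nat_lit 67, d_s4, nat_lit 150), (nat_lit 65, d_s3, nat_lit 150), (nat_lit 59, d_s2, nat_lit 150), (nat_lit 94, d_s1, nat_lit 150), (nat_lit 26, d_s0,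 nat_lit 150), (nat_lit 46, d_s4, nat_lit 133), (nat_lit 137, d_s2, nat_lit 133), (nat_lit 61, d_s1, nat_lit 133), (nat_lit 10, d_s0, nat_lit 133), (nat_lit 81, d_s4, nat_lit 50), (nat_lit 105, d_s3, nat_lit 50), (nat_lit 82, d_s2, nat_lit 50), (nat_lit 220, d_s0, nat_lit 50), (nat_lit 41, d_s3, nat_lit 86), (nat_lit 5, d_s2, nat_lit 86), (nat_lit 7, d_s1, nat_lit 86), (nat_lit 93, d_s3, nat_lit 37), (nat_lit 16, d_s2, nat_lit 37), (nat_lit 42, d_s1, nat_lit 37), (nat_lit 262, d_s0, nat_lit 37), (nat_lit 20, d_s4, nat_lit 9), (nat_lit 19, d_s3, nat_lit 9), (nat_lit 13, d_s2, nat_lit 9), (nat_lit 109, d_s1, nat_lit 9), (nat_lit 15, d_s4, nat_lit 135), (nat_lit 225, d_s2, nat_lit 135), (nat_lit 207, d_s1, nat_lit 135), (nat_lit 107, d_s4, nat_lit 63), (nat_lit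 149, d_s3, nat_lit 63), (nat_lit 213, d_s2, nat_lit 63), (nat_lit 56, d_s1, nat_lit 63), (nat_lit 28, d_s4, nat_lit 12), (nat_lit 121, d_s2, nat_lit 12), (nat_lit 14, d_s1, nat_lit 12), (nat_lit 176, d_s0, nat_lit 12), (nat_lit 204, d_s2, nat_lit 173), (nat_lit 140, d_s1, nat_lit 173), (nat_lit 127, d_s0, nat_lit 173), (nat_lit 80, d_s2, nat_lit 96), (nat_lit 184, d_s0, nat_lit 96), (nat_lit 114, d_s3, nat_lit 39), (nat_lit 4, d_s2, nat_lit 39), (nat_lit 83, d_s1, nat_lit 39), (nat_lit 190, d_s0, nat_lit 39), (nat_lit 88, d_s4, nat_lit 67), (nat_lit 44, d_s4, nat_lit 65), (nat_lit 177, d_s3, nat_lit 65), (nat_lit 203, d_s1, nat_lit 65), (nat_lit 125, d_s0, nat_lit 65), (nat_lit 57, d_s3, nat_lit 59), (nat_lit 193, d_s0, nat_lit 59), (nat_lit 108, d_s4, nat_lit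 94), (nat_lit 90, d_s3, nat_lit 94), (nat_lit 128, d_s2, nat_lit 94), (nat_lit 145, d_s0, nat_lit 94), (nat_lit 101, d_s2, nat_lit 26), (nat_lit 58, d_s1, nat_lit 26), (nat_lit 22, d_s1, nat_lit 46), (nat_lit 233, d_s3, nat_lit 137), (nat_lit 48, d_s0, nat_lit 137), (nat_lit 40, d_s4, nat_lit 61), (nat_lit 136, d_s3, nat_lit 61), (nat_lit 179, d_s1, nat_lit 61), (nat_lit 161, d_s0, nat_lit 61), (nat_lit 52, d_s4, nat_lit 10), (nat_lit 84, d_s3, nat_lit 10), (nat_lit 151, d_s0, nat_lit 81), (nat_lit 78, d_s3, nat_lit 105), (nat_lit 35, d_s2, nat_lit 105), (nat_lit 224, d_s0, nat_lit 105), (nat_lit 31, d_s2, nat_lit 82), (nat_lit 79, d_s0, nat_lit 82), (nat_lit 175, d_s4, nat_lit 220), (nat_lit 147, d_s2, nat_lit 220), (nat_lit 157, d_s1, nat_lit 220), (nat_lit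 120, d_s0, nat_lit 220), (nat_lit 8, d_s2, nat_lit 41), (nat_lit 165, d_s0, nat_lit 41), (nat_lit 68, d_s1, nat_lit 7), (nat_lit 106, d_s2, nat_lit 16), (nat_lit 60, d_s1, nat_lit 16), (nat_lit 3, d_s0, nat_lit 16), (nat_lit 158, d_s1, nat_lit 42), (nat_lit 75, d_s0, nat_lit 42), (nat_lit 154, d_s2, nat_lit 262), (nat_lit 100, d_s0, nat_lit 20), (nat_lit 73, d_s1, nat_lit 13), (nat_lit 30, d_s1, nat_lit 15), (nat_lit 258, d_s1, nat_lit 225), (nat_lit 249, d_s0, nat_lit 225), (nat_lit 49, d_s1, nat_lit 207), (nat_lit 33, d_s3, nat_lit 107), (nat_lit 32, d_s2, nat_lit 107), (nat_lit 24, d_s1, nat_lit 107), (nat_lit 163, d_s2, nat_lit 149), (nat_lit 43, d_s1, nat_lit 149), (nat_lit 76, d_s2, nat_lit 213), (nat_lit 87, d_s1, nat_lit 213), (nat_lit 47, d_s0, nat_lit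 213), (nat_lit 21, d_s4, nat_lit 56), (nat_lit 205, d_s1, nat_lit 56), (nat_lit 36, d_s0, nat_lit 56), (nat_lit 62, d_s1, nat_lit 28), (nat_lit 256, d_s0, nat_lit 28), (nat_lit 197, d_s0, nat_lit 204), (nat_lit 257, d_s4, nat_lit 127), (nat_lit 223, d_s0, nat_lit 127), (nat_lit 99, d_s3, nat_lit 80), (nat_lit 70, d_s4, nat_lit 83), (nat_lit 38, d_s3, nat_lit 83), (nat_lit 172, d_s0, nat_lit 203), (nat_lit 97, d_s3, nat_lit 125), (nat_lit 11, d_s2, nat_lit 125), (nat_lit 129, d_s4, nat_lit 193), (nat_lit 263, d_s3, nat_lit 193), (nat_lit 180, d_s2, nat_lit 193), (nat_lit 143, d_s1, nat_lit 193), (nat_lit 53, d_s0, nat_lit 193), (nat_lit 25, d_s0, nat_lit 58), (nat_lit 104, d_s0, nat_lit 233), (nat_lit 188, d_s1, nat_lit 48), (nat_lit 212, d_s4, nat_lit 161),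 (nat_lit 201, d_s3, nat_lit 161), (nat_lit 148, d_s2, nat_lit 161), (nat_lit 186, d_s0, nat_lit 224), (nat_lit 2, d_s1, nat_lit 79), (nat_lit 156, d_s3, nat_lit 175), (nat_lit 168, d_s1, nat_lit 175), (nat_lit 183, d_s3, nat_lit 157), (nat_lit 142, d_s2, nat_lit 157), (nat_lit 218, d_s1, nat_lit 157), (nat_lit 228, d_s0, nat_lit 157), (nat_lit 118, d_s3, nat_lit 120), (nat_lit 111, d_s1, nat_lit 165), (nat_lit 189, d_s0, nat_lit 106), (nat_lit 155, d_s2, nat_lit 158), (nat_lit 178, d_s2, nat_lit 75), (nat_lit 243, d_s0, nat_lit 75), (nat_lit 77, d_s4, nat_lit 100), (nat_lit 215, d_s4, nat_lit 249), (nat_lit 254, d_s3, nat_lit 249), (nat_lit 238, d_s1, nat_lit 249), (nat_lit 236, d_s0, nat_lit 33), (nat_lit 116, d_s4, nat_lit 24), (nat_lit 123, d_s3, nat_lit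 24), (nat_lit 234, d_s1, nat_lit 205)]
noncomputable def d_lev1 : Core.Lev := Core.mkLev d_n d_w d_mask d_L d_maskL d_idc (nat_lit 2) [d_s4, d_s3, d_s2, d_s1] [(nat_lit 8, d_s1, nat_lit 2), (nat_lit 42, d_s4, nat_lit 8), (nat_lit 79, d_s3, nat_lit 8), (nat_lit 44, d_s2, nat_lit 8), (nat_lit 70, d_s1, nat_lit 8), (nat_lit 22, d_s4, nat_lit 42), (nat_lit 10, d_s3, nat_lit 42), (nat_lit 158, d_s1, nat_lit 42), (nat_lit 82, d_s4, nat_lit 79), (nat_lit 52, d_s3, nat_lit 79), (nat_lit 86, d_s2, nat_lit 79), (nat_lit 31, d_s4, nat_lit 44), (nat_lit 88, d_s3, nat_lit 44), (nat_lit 41, d_s2, nat_lit 44), (nat_lit 128, d_s1, nat_lit 44), (nat_lit 188, d_s4, nat_lit 70), (nat_lit 60, d_s3, nat_lit 70), (nat_lit 62, d_s2, nat_lit 70), (nat_lit 201, d_s1, nat_lit 70), (nat_lit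 40, d_s3, nat_lit 22), (nat_lit 78, d_s2, nat_lit 22), (nat_lit 204, d_s1, nat_lit 22), (nat_lit 84, d_s3, nat_lit 10), (nat_lit 14, d_s2, nat_lit 10), (nat_lit 18, d_s1, nat_lit 10), (nat_lit 203, d_s4, nat_lit 158), (nat_lit 224, d_s3, nat_lit 158), (nat_lit 155, d_s2, nat_lit 158), (nat_lit 150, d_s1, nat_lit 158), (nat_lit 176, d_s4, nat_lit 82), (nat_lit 13, d_s1, nat_lit 82), (nat_lit 136, d_s4, nat_lit 52), (nat_lit 7, d_s2, nat_lit 52), (nat_lit 97, d_s1, nat_lit 52), (nat_lit 141, d_s4, nat_lit 86), (nat_lit 5, d_s2, nat_lit 86), (nat_lit 65, d_s4, nat_lit 31), (nat_lit 15, d_s3, nat_lit 31), (nat_lit 50, d_s2, nat_lit 31), (nat_lit 53, d_s1, nat_lit 31), (nat_lit 121, d_s3, nat_lit 88), (nat_lit 93, d_s4, nat_lit 41), (nat_lit 12, d_s3, nat_lit 41),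 (nat_lit 225, d_s1, nat_lit 41), (nat_lit 258, d_s4, nat_lit 128), (nat_lit 49, d_s2, nat_lit 128), (nat_lit 83, d_s4, nat_lit 188), (nat_lit 212, d_s3, nat_lit 188), (nat_lit 154, d_s1, nat_lit 188), (nat_lit 148, d_s3, nat_lit 60), (nat_lit 38, d_s4, nat_lit 62), (nat_lit 161, d_s3, nat_lit 62), (nat_lit 228, d_s1, nat_lit 201), (nat_lit 46, d_s2, nat_lit 40), (nat_lit 20, d_s1, nat_lit 40), (nat_lit 9, d_s4, nat_lit 78), (nat_lit 81, d_s2, nat_lit 78), (nat_lit 151, d_s1, nat_lit 78), (nat_lit 73, d_s4, nat_lit 204), (nat_lit 137, d_s3, nat_lit 204), (nat_lit 125, d_s1, nat_lit 204), (nat_lit 61, d_s4, nat_lit 84), (nat_lit 16, d_s4, nat_lit 14), (nat_lit 37, d_s3, nat_lit 18), (nat_lit 135, d_s1, nat_lit 18), (nat_lit 90, d_s1, nat_lit 203), (nat_lit 108,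 d_s1, nat_lit 155), (nat_lit 67, d_s4, nat_lit 150), (nat_lit 59, d_s2, nat_lit 150), (nat_lit 94, d_s1, nat_lit 150), (nat_lit 4, d_s3, nat_lit 13), (nat_lit 262, d_s2, nat_lit 136), (nat_lit 57, d_s1, nat_lit 136), (nat_lit 68, d_s1, nat_lit 7), (nat_lit 11, d_s4, nat_lit 97), (nat_lit 101, d_s3, nat_lit 97), (nat_lit 233, d_s1, nat_lit 97), (nat_lit 182, d_s3, nat_lit 141), (nat_lit 133, d_s1, nat_lit 141), (nat_lit 28, d_s3, nat_lit 5), (nat_lit 177, d_s3, nat_lit 65), (nat_lit 173, d_s2, nat_lit 65), (nat_lit 35, d_s3, nat_lit 15), (nat_lit 30, d_s1, nat_lit 15), (nat_lit 105, d_s3, nat_lit 50), (nat_lit 114, d_s1, nat_lit 121), (nat_lit 184, d_s3, nat_lit 225), (nat_lit 197, d_s4, nat_lit 258), (nat_lit 99, d_s1, nat_lit 212), (nat_lit 3, d_s2, nat_lit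 38), (nat_lit 106, d_s1, nat_lit 38), (nat_lit 190, d_s2, nat_lit 228), (nat_lit 109, d_s4, nat_lit 46), (nat_lit 145, d_s1, nat_lit 20), (nat_lit 19, d_s3, nat_lit 9), (nat_lit 48, d_s1, nat_lit 81), (nat_lit 39, d_s4, nat_lit 137), (nat_lit 179, d_s4, nat_lit 125), (nat_lit 207, d_s1, nat_lit 135), (nat_lit 140, d_s4, nat_lit 90), (nat_lit 26, d_s2, nat_lit 108), (nat_lit 80, d_s1, nat_lit 262), (nat_lit 58, d_s2, nat_lit 68), (nat_lit 96, d_s1, nat_lit 182)]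
noncomputable def d_lev2 : Core.Lev := Core.mkLev d_n d_w d_mask d_L d_maskL d_idc (nat_lit 3) [d_s4, d_s3, d_s2] [(nat_lit 83, d_s2, nat_lit 3), (nat_lit 70, d_s4, nat_lit 83), (nat_lit 38, d_s3, nat_lit 83), (nat_lit 188, d_s4, nat_lit 70), (nat_lit 60, d_s3, nat_lit 70), (nat_lit 62, d_s2, nat_lit 70), (nat_lit 155, d_s4, nat_lit 38), (nat_lit 53, d_s3, nat_lit 38), (nat_lit 212, d_s3, nat_lit 188), (nat_lit 203, d_s2, nat_lit 188), (nat_lit 148, d_s3, nat_lit 60), (nat_lit 161, d_s3, nat_lit 62), (nat_lit 201, d_s2, nat_lit 155), (nat_lit 224, d_s4, nat_lit 203), (nat_lit 158, d_s3, nat_lit 203)]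
noncomputable def d_lev3 : Core.Lev := Core.mkLev d_n d_w d_mask d_L d_maskL d_idc (nat_lit 4) [d_s4, d_s3] [(nat_lit 16, d_s3, nat_lit 4), (nat_lit 13, d_s4, nat_lit 16), (nat_lit 14, d_s4, nat_lit 13)]
noncomputable def d_lev4 : Core.Lev := Core.mkLev d_n d_w d_mask d_L d_maskL d_idc (nat_lit 5) [d_s4] [(nat_lit 37, d_s4, nat_lit 5), (nat_lit 173, d_s4, nat_lit 37)]
noncomputable def d_levels : List Core.Lev := [d_lev0, d_lev1, d_lev2, d_lev3, d_lev4]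

def c_ga : Nat := nat_lit 0x4349cfd3016e0c5e2f9e2067e379a47a7d29168a250839dcc8bb57c10ce8f4f4161475492361e6663154fe08451653ab962b2d710280b09c26157231c6098594d0cd654bd13f0852a6436e2534250efe4dac8dc6848048ecc1732704e2d051343017329a95aba059d11c932c1710821163cd2d0c62401e497553edcac81b3e106d388acd00cc7fb35b30e7cc40e2986db51ecda061c102a8412d1c8306c3d4487c27a14e4880b370ac0303988e65d580056c9a148c580a10f2801a570eb24f2051904ca8020e064c6003584008ca171b5d8ed088957c6c3d2559e7b158d046e844a9c7cc35aaae24f17392deefc203e9aac76bb395845212f116915b8a828a30305474dd078987041703797aa468bc1a03c77921d6465f8684049748a0663b1c9107e2223a886eb14a3b9be43179286ad207131d41f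
def c_gb : Nat := nat_lit 0x1a9a1016b9b1925335a659c91881b9fc2684c1196944b350a22f378a8db0c62b31a4298898c762040ad4b2805a3a5eeaf51ba10efa7337dc2126aa2587052f9f0ba79701cd60344d4289e097f8ea0c925c970ea23589c86c1f262b9de71079c12e280335858d87e1140adb00b28447e0f27dbada0002cc3025bc1d9a4d3fab10474109d93cf356c34f0542d38ca4658593938842f0d438e40524c7c5834810aaf042bb88cb3763d9bc6687039a6d9842f0711252aad2a8b7ead8acaa75bd140d1068f094cf78a8888a90e9e90cb22b9f53aea802311ca701c0d36981238942fb248ccce0234181741418061ce073d8c8ee0c138b520b85e8597ec2200dd88ed17045804852109ca436312d50be41865b88f46991150f15869f0f9208207ec1638c4a062640e44a105d91c7a882d85436f509a982ef2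
def c_gai : Nat := nat_lit 0x1153e9678a6224ac6dbd59cd47fc35ecfa84b91c6aa4db322040530f92ea220a450cd6572a488220f828b0590e8042e4c21b0d4a896eb41c22704898587e49a4132871db607a92500104621288e9349c73170d4a41e3bdceab2438988710d9544a367e2e1d0e5199d48e8a4f32818777db7d72392329dae8c2533da62418038e06e6abddd2c2659d1a494542b4a40b5a3cc68c77c2d5e4de1abac968066b6504b150a2d1a9d76c2208842814cd30a7f315e8b63ca052a8e83b24b4542faea0cc87cbc176fd309e9c10f85c30f0b287409d4b3361f5dc656d40e030041c457c0221018301e078707012040dc503f089260a200a0b4262906a8c0a4e0a99ce4880396d80af278c8e616608a8ac85268416019001bcd66368868c4bd5e1fc5c3133318ae5e1580cda8f5bafdb8ec3d8bcd05d3e190ec60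
def c_gbi : Nat := nat_lit 0x1d1e7070e1ed34f849b4a067753335b902292a2205767c14deb7263903019749f8086a4e000c68460a08607f35961d4e620b8c528c4b139c2d7711f55a215a2b0f0b887ae9befe3cbd4d111324254af680aca1a0f0989dee316e8d0282d1a8906e76059159638539b9dceb401718ed57430936a2391b0c0252a008e62b739889a6957274b29128b4e14505ebfce300453321039101543e5638075bc0872975069011a85deec51ac0b4da1f979b0991ea7992a06b31980be7dc19f30e85c490e47249f1281e7904152466da3db2ca03a5dda882d9b50a9886255fa1168a4948c313194962c052056c61140a82e330aa24126678b381c75193151cd4250f824437e0bc74b90dbe9e8bc1dc101a4f642c53ef0622bcbe8d028684442008d80c4401b805c0c5f9e8ce3c5522da016202ed6a862992166ab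
def c_ux : List Nat := [0,3,3,2,2,2,2,1,0,3,3,2,3,0,0,0,3,3,0]
def c_uy : List Nat := [0,1,1,1,0,3,0,3,2,3,2,2,3,0,3,2,1,0,0,0]
def c_WA : List (List Nat) := [[0,1,0,3,2,3,2,1,0,3,0,3,3,0],[1,2,2,2,1,2,1,0,0,3,2,1,0],[1,0,1,1,1,2,1,0,0,3,3,0],[3,2,1,1,0,0,3,2,1,0,3,0,0,0],[3,2,2,1,0,1,0,1,1,1,2,3,0],[3,2,2,2,1,1,2,3,3,2,3,3,2,1],[0,3,2,1,2,3,2,3,0,3,3,0,1],[2,3,3,0,1,2,2,2,1,1,2,1,2],[3,0,0,3,3,2,1,2,3,0,1,2],[3,2,3,3,0,0,3,2,3,0,0,0,1,0],[3,3,2,2,3,0,3,2,1,2,2,1,1,0,0],[1,0,0,1,2,1,0,3,3,2,3,0,1,2],[3,0,3,0,1,0,1,2,1,0,0,0,3],[1,2,2,2,1,0,1,2,3,2,1,0,1],[1,2,3,2,3,2,1,0,1,2,2,1,1],[0,1,1,1,2,1,2,2,2,1,2,2,2],[3,3,0,0,0,1,2,1,2,3,3,2,3,2],[0,3,2,2,2,1,1,0,1,0,3,0,0],[3,2,1,0,3,2,3,2,3,0,1,2,2,3,0],[0,3,0,3,2,1,0,3,2,3,3,0,1,0,0],[0,1,1,1,0,1,0,1,1,0,3,2,2,3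,0],[0,0,1,1,0,0,1,0,1,2,1],[2,2,3,2,2,3,3,0,3,0,1,1],[0,1,0,0,3,3,2,2,1,2,3],[2,2,1,0,0,0,3,2,2,1,1,2],[3,0,3,0,0,3,0,0,0,3,2],[0,0,1,0,0,1,1,2,3,2,1,2,3,3,0],[0,1,1,2,2,2,3,2,2,3,3,2,1,1],[2,3,2,3,2,1,1,2,3,3,0,1,0],[3,3,0,0,1,1,1,0,3,0,1,1,1],[3,2,3,2,3,3,2,3,0,3,3],[0,3,2,3,2,3,3,2,1,2,1,1,1,0,0,0],[0,3,0,0,1,1,2,3,3,0,1,2],[3,0,3,2,3,3,2,2,2,3,0],[0,1,1,0,1,1,2,2,3,3,2,1,0,0,1],[2,3,3,0,3,2,3,0,0,3,0,0,1,1,0],[0,0,0,1,0,0,0,3,0,3,3,0,0,0,1],[3,0,3,0,1,0,0,3,2,3,2,1,1,1],[3,3,2,3,0,3,0,0,0,3,0,3,3,2],[2,1,1,0,3,0,1,1,1,0,1,2,2,3],[1,0,3,2,2,1,2,3,0,1,2,1,1],[0,0,3,2,2,2,3,0,0,1,2,2,2,3,0,1],[3,0,0,1,2,1,1,0,1,0,1],[2,2,2,3,3,2,2,2,3,0,3,2,3,3],[3,0,3,2,2,3,2,1,2,1,2],[2,3,2,3,2,2,1,1,1,0,0,3,0,1,2],[3,2,1,2,1,1,0,0,1,1,1,0,1,1,1],[0,3,0,3,0,0,3,3,0,3,2,1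,1,1,0],[0,1,2,3,3,2,3,2,1,1,2,1],[3,3,0,1,2,2,1,2,1,1,0,1,2],[1,2,1,2,2,3,2,2,3,3,2,3,0,0,0],[2,2,1,0,0,1,1,1,2,1,1,0,1,2],[0,3,2,3,2,1,0,3,3,0,1,1,1,2],[0,3,3,0,0,1,1,2,3,3,0,1,0,0,1],[0,0,1,1,0,1,1,2,3,3,0,0,0],[3,3,0,0,0,1,2,1,1,2,2,2],[3,3,2,3,0,1,2,2,3,0,1,0,0,1,1],[0,0,3,3,0,1,0,3,2,2,1,0,0],[2,3,3,2,3,0,1,2,2,1,2,1,1,1,0],[0,1,1,1,2,3,2,1,1,1,2],[1,0,1,0,3,2,3,0,1,2,3,3,0,1],[2,2,3,2,1,1,2,1,2,3],[3,3,2,1,1,2,3,3,2,2,2,3],[0,1,1,2,1,0,1,2,2,1,1,2,3,0],[3,0,1,1,1,0,1,0,3,3,0],[3,3,0,0,0,1,1,1,0,3,3,2,1],[0,1,1,1,0,1,2,1,0,0,3,3,0,0,0],[3,0,1,2,2,3,0,3,2,3,0,1,0,3,0],[1,1,0,1,2,2,3,3,2,3,0,1,0],[0,1,1,2,3,0,1,1,0,3,2,1,2,1,0],[0,1,2,2,1,1,1,2,2,2,1,0,1,1],[2,3,2,1,0,0,0,3,3,0,0,0,1,1],[0,0,1,2,2,2,1,0,1,2,3,0],[1,2,3,3,0,1,0,3,3,0,3,2,3,0,0],[1,2,2,3,3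,0,3,0,1,1,0,3,0,0],[0,0,3,3,0,0,1,0,0,1,0,1,0,1],[0,3,0,1,1,1,0,3,0,0,3,2,1,0,1],[2,1,1,1,0,0,3,0,1,0,3,3,2,3,0],[1,1,2,1,1,0,1,0,3,2,1,1,2,1,0,0],[3,3,2,1,1,0,1,2,2,1,0,1,2],[0,0,1,2,2,2,1,0,1,2,2,2],[0,3,2,3,2,2,2,3,2,1,2,3,2,3],[0,3,3,2,3,2,2,2,1,2,2,3,3,2],[2,2,3,0,0,1,2,2,3,3,2,2,2],[0,0,1,0,0,1,0,0,0,1,1,0,0,1,0],[3,3,2,3,2,1,2,3,0,0,1,2,3,0],[3,2,1,1,2,2,3,0,3,2,2,1,2,1,0],[2,1,1,2,2,1,0,0,1,1,2,1,0,1,1,0],[1,0,1,1,2,1,0,0,1,1,2,2,1,0],[0,3,2,3,3,0,0,1,1,1,2,2],[1,2,1,1,2,3,2,2,2,3,2,3,0,0,3],[0,3,2,1,1,2,3,2,3,0,1,2,2,1],[1,0,3,3,0,3,2,1,1,0,3,3,0],[2,2,2,3,3,2,3,3,0,1,0,1,2],[0,3,2,2,3,0,1,2,1,0,0,3,2,1,0],[1,0,3,2,1,0,1,1,2,3,2,3,0],[2,1,0,0,3,3,2,1,2,3,0,3,2,3],[0,1,0,0,3,0,3,3,2,3,2,1,1],[1,1,2,3,2,1,1,2,3,3,2,1,0,1,0],[0,1,0,1,1,0,0,0,1,0,1,1,2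,1],[2,3,2,3,3,2,1,1,1,0,1,2,1],[1,1,2,3,2,2,2,1,0,1,1,0,1,1],[0,0,3,3,2,3,3,2,1,1,2,2,2],[2,3,0,3,2,3,0,3,2,2,2,3,2],[3,3,2,1,1,2,3,3,2,3,2,2,3],[2,3,3,0,0,0,1,0,0,3,2,2,1],[0,3,3,0,1,2,1,1,2,1,2,3,2,2,1],[3,0,1,0,3,2,1,0,0,1,2,2,3,0],[3,0,3,2,3,0,1,0,1,2,3],[0,3,3,2,1,1,1,0,1,2,2,2],[1,1,0,3,2,3,0,1,1,0,1,0,1,1,0],[1,1,0,0,3,2,2,1,2,2,1,0,0,0],[1,0,0,0,3,2,3,2,3,3,2,2,2],[1,0,0,1,1,1,0,1,2,1,0,0,1,1],[0,0,0,1,0,3,2,1,2,2,3,3,2],[3,2,2,3,3,0,1,1,0,3,2,3,2,1],[0,1,0,1,1,0,1,2,2,1,1,2,3,2],[1,1,0,1,1,0,3,3,0,1,0,3,3,2,1,0],[0,3,2,2,3,3,2,1,1,0,0,3,3,2],[2,1,1,2,3,3,2,2,3,2,2,2],[1,0,0,1,0,1,2,3,0,0,0],[2,3,2,2,1,0,1,1,0,1,0,1],[2,2,1,2,3,2,2,2,1,1,0,3,0,1,2],[2,3,2,2,1,1,0,1,1,0,1,2,3,0],[0,3,0,3,2,2,1,1,1,0,1,0,1],[0,0,3,2,3,0,3,2,2,1,2,2,3,0,1],[3,0,1,1,2,3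,3,0,1,1,1,2,2,1],[3,2,2,3,3,2,1,0,1,1,2,1,2],[1,2,1,0,0,3,2,1,1,0,3,0],[2,3,2,2,3,2,2,2,3,3,0,0],[2,2,2,1,1,1,0,0,0,3,0,1,0,0,3],[2,3,3,0,1,0,1,2,1,1,0,3,3],[2,2,3,3,0,0,0,1,0,0,0,3],[1,2,2,1,0,0,3,0,1,1,2,2,2,3],[0,1,2,1,1,2,3,3,2,1,0,1,0,1],[1,0,0,3,0,0,3,2,2,3,0,1,0,3],[1,0,1,2,2,3,0,1,0,3,2,3,0,3],[1,0,1,2,3,2,2,3,0,1,0,0,0],[2,1,1,0,3,2,1,0,0,1,1,0,0,1],[3,0,3,0,1,2,3,2,2,3,0,1,1,1],[0,3,3,2,3,3,2,3,0,0,0,1,0,3],[1,0,3,3,0,1,0,3,0,1,2,1,0,0],[3,0,1,1,2,1,0,3,2,3,3,2,2,3,3],[0,3,2,2,1,2,3,0,3,2,3,0],[1,1,0,1,1,1,0,1,2,2],[1,0,0,3,0,1,0,1,2,1,0,1,1],[0,3,0,0,3,2,2,1,1,1,2,1,0,1],[2,1,0,3,3,0,3,2,1,0,3,3,0,1,1],[3,2,3,0,0,0,3,2,2,3,2,1,0,3],[0,3,0,0,1,2,3,3,0,1,1,0,0,1],[0,3,2,3,2,1,2,2,3,2,1,2,1],[1,2,2,1,0,1,2,2,1,1,0,1,0,0],[1,1,0,0,3,3,0,0,1,2,2,3,0],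[2,1,1,1,0,0,1,0,3,0,3,2,3,3],[0,0,0,3,2,1,0,3,2,3,0,0,1],[1,2,3,3,0,3,3,2,1,2,3,3,2,1,0],[1,0,3,2,1,1,0,0],[2,3,0,3,3,2,3,2,1,1,0,0,3],[3,0,3,3,2,2,2,1,0,0,1,2,2],[2,2,3,0,1,2,1,0,0,3,2,1,2,3],[0,0,1,0,0,3,3,0,1,0,3,0,1,2,1,2],[2,3,0,0,1,0,1,2,1,0,1,1,1],[1,0,0,3,2,2,2,1,2,1,2,3,2,1,0,0],[2,3,2,2,2,3,2,1,1,0,0,3,0,0,0],[2,3,2,1,2,1,0,3,0,0,1,2,2,2],[1,0,1,1,0,3,2,2,1,0,1],[3,3,0,0,3,2,1,0,1,0,3,2,2],[3,3,0,0,0,1,0,3,2,2,1,1,2,3],[3,0,0,0,3,2,3,2,3,3,2,1,0,0],[2,3,3,0,3,2,1,0,1,1,1,0,3,2],[2,1,1,1,0,3,3,2,3,3,2,2,3,0,0],[1,2,1,1,0,0,0,1,0,1,2,1,0,0],[2,2,2,1,0,0,3,2,2,1,2,3],[3,3,0,3,3,2,2,1,0,3,0,1,0,3,2],[0,3,3,0,3,2,3,0,1,1,1,2,2,1,1],[2,2,1,0,0,0,1,1,0,1,1,2,3,0,0],[2,3,2,3,0,0,3,2,2,1,0,1,1,0],[1,1,2,1,0,0,0,1,0,0,1,0,1],[1,1,2,1,1,1,0,0,3,2,2,2,1,0],[3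,3,2,3,2,3,3,2,1,1,0,1,2,2],[1,2,1,1,0,1,1,2,1,0,3,3,2],[0,3,0,0,1,0,3,0,3,0,1,0],[0,1,2,3,3,2,1,2,3,0,3,2,3,0,1],[2,1,2,1,2,3,2,3,3,0,3,0],[2,1,0,3,0,0,3,2,3,0,0,3,0,0],[1,1,1,2,3,2,2,3,3,2,1,1,2,3,2],[1,2,1,0,0,3,2,2,3,3,2,1,1,1],[1,1,1,0,1,1,2,2,2,3,2,2,2,1],[3,3,2,1,2,3,3,2,3,0,1,1,1],[2,2,1,0,0,3,2,3,0,3,3,0,0,1,1],[3,0,1,1,2,2,3,2,3,0,0,3,2,3],[3,2,2,3,2,2,3,3,0,1,0,0,1,1,0],[3,3,0,1,0,3,2,2,1,0,0,3,2,2],[3,0,1,2,1,1,0,3,2,2,2,3],[2,3,2,1,0,1,0,1,1,1,2,3,0,1,1,1],[0,1,2,1,1,0,1,2,3,2,3,0,3,0,0],[3,0,1,2,2,2,3,0,3,3,0,0,1,1],[0,1,0,0,1,1,2,3,3,2],[0,0,0,3,2,3,3,0,3,2,3,0,3,2],[0,3,2,2,3,3,2,2,1,0,1,0,1,1,2],[2,1,1,1,2,1,1,0,3,0,0,0,1,0],[1,0,0,1,2,1,2,3,0,0,1,2],[2,2,2,3,0,3,2,3,2,1,0,3,0,3,0,0],[3,0,0,3,0,0,0,3,0,0,1,1,1,0,1],[3,3,0,3,0,1,0,0,0,3,0,3,2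,1,0],[2,3,3,2,3,0,3,0,0,1,1,0,0,1],[2,1,1,2,1,2,3,2,3,0,1,2,1],[3,0,0,1,0,1,0,1,1,1,2,1,0,3,0],[3,3,0,1,2,3,0,3,2,2,1,2,3,3],[2,1,2,1,0,1,2,1,1,2,2,1,1],[0,1,0,0,0,3,0,1,2,3,2,1,0,0],[0,0,3,3,0,0,3,2,3,0,0,0,1,2,1],[2,1,1,0,0,3,3,2,3,0,3,0,0,0],[0,0,3,3,2,1,0,3,2,3,2],[0,0,3,3,0,0,3,3,0,3,2,1,1],[3,2,1,1,2,3,2,3,3,0,1,1,0,1,2],[2,3,0,1,0,1,1,0,3,2,2,2,3,0,0],[1,1,1,0,3,2,1,0,3,0,0,1,0],[1,1,2,1,1,0,1,0,0,1,1,0,3,0,0],[2,1,0,1,1,0,1,2,1,2,2,1],[3,0,3,0,1,1,2,2,2,3,0,3,0,1,1],[0,0,1,1,0,3,0,1,2,1,0,0,0,1],[1,0,1,0,3,2,3,3,2,2,1,2,1,1],[2,2,1,1,2,3,3,2,2,3,3,2],[1,2,3,3,0,3,3,2,2,3,2,3,0,1,0],[0,0,3,2,1,1,1,0,3,3,0,0,1,0],[1,2,1,1,0,1,2,2,1,0,1],[3,2,3,2,2,3,0,1,0,0,0,1,0,0,1],[3,3,2,1,2,3,2,3,0,3,2,2,1],[0,0,0,3,3,0,3,3,2,2,1,0,1,0],[0,0,1,1,0,3,2,2,2,3,3,0,3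,0],[0,0,0,3,3,2,2,3,0,1,2,3,0,0],[1,1,2,2,1,0,3,3,0,3,0,1,2],[0,3,0,0,3,3,0,3,2,1,0,1,1],[2,1,1,2,1,1,1,2,1,1,2,3,3],[3,2,1,0,1,1,0,3,2,1,2,3,0,3,0,1],[1,2,3,2,1,0,0,0,3,0,0,3,0,1,0],[0,3,2,2,3,0,1,1,2,2,1,2,2,1,0,1],[2,3,2,2,2,3,2,1,2,1,1,1,2,3,0],[0,1,2,3,2,2,1,1,1,0,3,2,1],[3,2,1,1,1,2,2,1,0,3,0,3,3],[1,1,0,0,1,2,1,0,1,0,3,0,1,0],[0,3,2,2,1,1,0,1,0,3,0,0,1,0,1],[2,2,3,3,2,3,0,1,1,0,3,0,1,0,0,0],[2,3,2,1,0,0,3,0,0,0,1,0,1,1,0],[2,3,3,0,0,0,1,2,1,2,2,3,2,2,2],[0,3,0,0,3,3,0,0,1,2,3,2,3],[2,3,2,2,1,2,3,2,1,1,1],[3,2,3,2,3,3,0,1,1,0,1,0,1,0],[1,1,2,1,0,0,1,2,1,2,2,2,3,2],[3,2,3,3,0,1,2,2,1,1,2,3,0,1,0],[3,0,0,1,1,0,3,0,0,0],[3,2,3,0,3,2,2,2,1,1,0,3,2,1],[0,1,0,0,3,0,0,1,1,0,0,3,2,3],[1,1,2,3,2,1,1,1,2,3,3,0,1,0],[2,1,2,2,3,2,2,1,0,3,3,2,3,2,1],[1,1,2,1,1,1,0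,1,0,1,2,1,0,1,2],[1,2,2,2,3,2,1,1,2,1,0,3,2],[1,0,1,2,2,1,2,3,2,1,1,0,0],[2,3,2,3,0,3,0,0,3,3,0,1,1],[1,2,1,1,2,2,3,2,2,3,3,2,3,0],[2,2,1,0,1,0,3,0,1,2,3,3,0,1],[2,2,3,3,0,1,0,0,3,2,2],[0,0,1,1,0,0,1,2,2,1,0,1,0,0,1],[2,1,1,1,0,3,3,2,2],[2,1,1,1,2,2,3,0,1,2,3,0],[0,0,3,0,1,2,1,0,3,0],[2,3,3,0,1,0,0,0,1,2,1,0,1,2],[3,0,0,0,3,0,3,3,2,1,2,2,3,2],[0,0,3,0,3,2,2,3,2,2,2,3,0,3],[1,2,3,0,3,0,0,3,0,1,1,1,0,1],[2,1,0,3,0,0,0,1,0,0,1,1,2,1,0],[2,1,1,2,1,0,0,3,2,1,2,2,2],[0,3,2,2,2,1,1,0,3,2,3,2,1,2],[0,1,0,3,0,1,2,2,2,1,2,1,0,3]]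
def c_WB : List (List Nat) := [[3,3,2,3,2,1,0,0,0,1,0,1,0],[2,3,3,0,0,3,0,1,0,1,1,0,1,2,2],[1,0,0,1,1,1,0,1,2,3,0,1,2],[0,0,1,0,1,1,1,2,1,1,0,3,0],[0,1,0,3,0,0,1,0,0,0,3,0,0],[1,0,0,0,1,1,0,1,2,3,0,0,0,1],[3,2,3,0,1,0,1,2,3,2,1,1,0],[1,2,2,1,0,1,2,3,0,1,1,1,0,0],[1,0,3,3,2,1,1,0,0,1,2,1,0,3],[1,1,0,1,0,0,0,1,0,0,3,0,3,0],[3,0,3,3,0,3,2,3,2,3,0,3],[2,3,0,0,1,2,2,3,3,2,3,3],[3,2,3,2,1,1,0,0,3,2,1,1,1,2],[0,3,0,0,3,3,2,2,2,1,0,3,2,3],[0,1,0,3,0,3,2,1,0,1,2,2,3,0],[2,1,0,3,3,0,1,1,1,0,3,0,1,1,0],[3,2,1,0,0,3,0,0,1,1,1,0,1],[1,2,2,2,3,2,3,0,0,1,1,1,0,0],[2,2,2,3,3,0,1,0,0,0,3,0,1,1],[2,2,2,1,2,1,0,0,1,0,3,2,1],[3,2,3,2,2,1,1,2,2,1,0,0,1],[2,2,2,3,0,3,2,3,0,3,0,0,1,2,3],[0,3,0,0,3,2,3,2,3,3,0,3,0,1,0],[1,0,1,2,1,1,1,2,2,2,1,2],[2,2,1,2,3,3,0,1,0,1,1,2,1],[2,2,1,0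,1,0,0,0,1,2,3,3,0,3,3],[3,3,0,3,3,2,1,0,0,3,2,3,0],[2,3,0,3,2,1,2,2,2,1,0,1,1,2],[3,2,1,0,3,2,2,1,0,1,2,2,1,0,3],[0,3,3,0,0,3,3,2,3,3,2,3,0,3,0,0],[0,1,2,1,1,1,2,1,1,0,0,1,0,0],[2,2,3,0,3,0,0,1,2,2,2,1,2,3],[1,1,0,0,3,0,0,3,3,2,3,0,3,0],[3,3,0,3,0,1,2,1,0,3,3,2,2,2],[2,2,1,2,3,2,1,0,3,3],[1,0,0,0,3,0,0,3,0,3],[2,1,2,2,1,1,0,1,0,0,1,0,0,1,1],[2,3,2,3,3,2,1,1,0,0,0,3,0],[1,2,1,1,0,1,2,3,0,1,1,2,2],[3,0,0,1,1,2,1,2,3,2,3,3],[0,3,3,2,3,0,3,0,0,3,3,0,0,1],[0,1,2,2,3,0,1,1,0,0,0,1,2],[1,2,3,2,1,2,3,0,3,0,0,1,1,0,0],[3,0,1,0,0,1,0,1,1,0,3,2,1],[2,2,1,2,2,1,1,1,2,3,2,3,3,0],[0,3,3,0,3,2,3,0,3,2,1,2,1,0,0],[2,2,2,3,2,2,1,0,1,0,0,3,2],[3,0,1,2,3,2,3,2,2,1,0,0,1,1],[1,0,1,0,3,0,1,0,1,0,0,0],[1,2,2,1,0,0,3,2,2,2,3,2,3],[1,1,2,3,2,1,1,1,0,3,3,0,1],[0,3,2,1,2,3,0,1,0,1,2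,1,1,0,0],[0,3,0,1,0,3,2,1,0,1,1,2,3,3],[2,3,0,1,0,1,0,0,0,1,1,2,1,2,3],[3,2,3,2,2,2,1,2,2,3,0,0,0],[1,2,2,1,1,0,0,0,3,2,3,2,2],[1,0,0,3,2,3,2,2,3,0,1,0,0,0],[0,0,1,1,1,2,3,3,0,1,1,0,0],[0,3,3,0,1,0,1,0,0,1],[3,0,1,2,3,2,1,2,2,3,2,3],[0,0,0,1,0,3,2,3,2,2,2,3,0],[2,3,0,3,0,0,1,0,3,3,0],[2,2,2,3,2,2,1,0,0,0,3,0,1,1],[0,3,0,1,0,1,2,3,3,2,3,2,1],[3,3,0,3,2,1,0,3,0,3,0,1],[2,3,0,3,2,1,0,3,3,2,2,1,1,1],[3,0,1,2,1,0,3,2,1,0,1,1,2,1],[1,1,2,2,2,1,0,0,0,1,2,3,0,1],[2,3,0,1,2,2,2,1,0,1,1,1,2,3],[0,1,1,2,2,2,1,0,3,0,3,3,0,0],[3,2,3,2,3,0,1,1,0,3,0,3,3,0,1],[3,2,2,3,2,3,2,1,1,1,2,2,1],[1,1,1,0,3,3,2,3,0,0,1,0,0,0,1],[1,0,0,3,3,0,0,1,0,3,0,3,3],[1,0,1,2,1,0,0,0,1,2,1,0,0,0],[3,3,0,1,0,3,2,2,3,2,1,2,1,1,2],[2,3,2,2,1,1,0,1,1,0,1,1,0],[0,3,2,3,2,2,3,0,3,0,1,1,0,0],[2,2,1,2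,2,3,3,2,3,2,2,2,3],[2,3,0,0,3,0,1,1,1,2,3,0,3,2,1],[2,3,2,2,3,2,2,1,1,2,1],[1,1,2,1,0,1,0,1,1,0,0,3,3,0],[1,0,0,0,1,2,3,2,1,0,1,2,2],[1,1,0,1,1,0,0,3,3,0,3,3,2,2,1],[2,1,0,0,0,3,0,1,0,0,1,1,2,3],[3,0,0,3,0,0,3,2,1,0,1,2,2],[2,2,3,3,2,2,1,0,1,2,2,1,2,2,2],[2,2,1,1,2,1,0,0,1,1,1,0,1],[1,1,1,2,1,0,1,2,2,1,0,1,1,1],[0,0,3,2,3,2,1,0,1,2,2,1,2,2],[0,3,3,2,1,0,1,1,0,3,2,2,3,0,3],[3,2,1,1,0,3,2,2,2,1,2,2,3,0,1],[1,0,1,0,3,0,3,3,0,1,2,3,0],[2,2,3,3,2,3,2,1,0,0,3,0,0,0],[1,2,3,2,1,2,3,2,2,3,0,1],[3,3,2,1,0,0,3,3,0,1,0,3,3],[1,0,1,1,2,3,2,3,3,2,3,3,0,3,0],[2,1,2,1,0,1,2,2,3,2,3,2,2,1,1],[1,2,2,2,1,2,3,0,0,1,2,2,1,1],[0,3,2,3,2,3,3,2,1,1,1],[3,0,1,0,1,2,1,1,1,2,3,2,3],[0,0,0,1,2,3,3,2,2,2,1,1,0,1],[3,0,1,1,2,3,3,0,1,1,0,3,0,1],[1,2,2,1,1,0,0,3,2,1,2,1,0,0,0],[1,0,3,3,0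,0,0,1,0,0,1,0,0,1,0],[0,1,1,0,1,1,0,1,1,2,3,0,3,2,2,1],[1,2,3,3,2,1,0,3,2,1,2,3,0],[3,0,3,0,1,0,1,0,1,1,0,1,0,0,1],[1,2,3,0,0,3,2,1,0,0,1,2,1,1],[3,2,2,3,3,2,3,0,3,0,1,0,0,1],[1,0,0,3,3,2,1,1,0,3,3,2,1,1],[2,2,1,2,2,2,3,0,3,2,1,1],[2,2,2,1,0,1,2,2,3,3,2,2,3,0,0],[3,2,2,2,3,0,1,1,2,3,3,2,2,1],[0,3,0,1,0,0,1,2,2,2,3,3],[3,3,0,1,0,1,0,3,3,2,3,2,2,3,3],[0,0,3,0,0,0,3,0,3,0,0,1,2,2],[0,1,2,3,0,3,2,2,1,0,3,2,2],[3,3,2,3,3,0,3,0,0,3,0,1,2,3,0],[1,0,1,0,0,1,1,2,3,3,0,0],[3,0,0,3,3,0,0,3,3,0,3,2,1,1,2],[0,0,3,0,0,0,1,1,2,1,0,0,3,2],[2,1,0,3,2,1,1,1,2,3,2,1,2,1,1],[0,0,3,3,0,3,0,0,1,2,1,0,0,0,1],[1,1,0,1,0,3,2,3,3,0,0,3,2,3,3],[2,2,3,0,1,0,0,0,3,2,2,2],[2,1,0,0,3,2,3,2,1,1,0,3,0,3,0],[1,0,3,0,1,1,1,0,0,1,1,0,0,0],[3,2,2,3,2,2,2,3,0,1,1,0,0,0],[0,0,1,1,1,2,2,3,2,2,1,1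,2,2],[0,1,2,1,2,2,1,1,1,0,3,2,2,1],[0,3,3,0,1,1,0,0,1,0,3,0,0],[0,0,0,1,0,3,0,1,0,3,2,1,2,1,2],[2,1,0,3,0,1,0,3,3,0,0,1,2],[2,2,1,0,3,2,2,2,3,3,2,1],[0,1,0,0,1,2,1,1,0,1,1,0,0],[0,1,2,3,2,3,3,0,0,1,2,2],[0,0,3,2,1,1,0,1,0,3,3,2,2,1],[2,1,0,3,2,2,2,3,2,3,2,2,2,3,3,0],[0,0,3,3,0,0,3,3,0,1,1,2,3],[3,2,1,1,2,2,2,3,0,0,3,0,1],[1,2,3,2,1,0,0,0,1,2,2,1,2,1],[3,2,3,3,0,1,0,1,2,2,3,2,1,0],[0,1,0,0,3,2,1,2,2,3,0,1],[0,1,0,0,3,3,2,1,1,1,0,0,3,2],[0,3,3,2,3,3,2,1,1,0,3,3,0,0,0,1],[1,2,1,1,0,0,3,2,1,2,2,1,2,3],[0,3,2,2,1,1,2,3,2,3,2,1,2,3,2],[0,3,2,2,2,3,3,0,1,0,1,0,3,3,2],[0,3,2,2,3,2,1,2,3,0,3,3,2,2,3],[1,2,3,2,3,0,0,3,3,2,3,2,3],[2,1,2,1,0,3,2,1,1,1,2],[2,1,1,0,3,2,3,0,3,2,1,2,1],[0,0,1,0,1,0,1,1,0,3,2,2],[2,3,2,1,1,0,0,0,1,2,1,0,3,2],[0,0,1,0,0,3,3,2,3,0,1,0,3],[1,0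,1,0,3,3,2,3,2,1,0,1,0],[0,3,3,0,0,3,2,1,0,3,2,2,3],[3,0,0,3,3,0,1,0,0,0,1,0,3,2],[0,0,3,0,1,2,3,0,1,2,1,2,2],[0,0,3,2,1,0,1,0,3,0,1,0,1,2,3],[2,2,1,1,0,3,2,2,1,0,1,2,1,0,0],[3,0,0,3,0,3,2,3,3,0,1,0,1,0],[3,0,3,3,0,1,1,2,2,3,0,1,0,1,1],[0,0,1,0,1,1,0,3,0,0,1,0,1,0],[2,1,2,3,2,3,3,0,3,3,2,1],[3,2,3,3,2,3,2,1,1,2,1,1,0,0],[2,3,0,0,1,1,2,3,3,2,1,0,3,0],[1,0,0,0,1,2,2,1,0,0,1,1,2,3],[1,0,0,3,2,1,2,3,2,1,0,1,1,0],[2,2,1,0,3,2,1,1,2,1,1,1,2],[2,2,2,1,0,3,2,3,3,2,1,1,1,0,0],[2,3,2,3,0,0,0,3,2],[0,1,1,0,1,1,0,1,1,1,2,3,2],[3,2,1,0,1,1,1,0,1,0,1,2,2,3,0],[2,1,2,1,0,1,1,2,3,3,2,1,0,3],[2,3,0,3,0,0,0,3,2,2,1,0,3,0,1],[1,0,1,2,3,2,3,0,0,0,1,0,3,2,2],[3,2,1,0,1,1,1,2,2,1,2,1,2,3],[2,2,3,0,0,3,3,0,1,1,1,2],[2,2,1,2,1,0,3,2,2,1,2,3,0],[1,0,3,2,1,0,3,2,1,0,0,1,0],[1,2,3,2,1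,1,2,3,2,2,2,1,0,3],[3,2,3,2,3,3,0,3,2,3,2,1,2,2],[1,2,2,1,1,1,0,3,2,2,3,0,1,2,3,0],[1,0,1,1,2,1,0,0,1,1,1,2,1,1],[2,3,0,3,3,0,0,3,2,3,0,1,2],[1,2,3,3,0,1,1,0,0,0,3],[1,1,0,1,0,3,3,0,3,2,1,1,1,0],[0,3,2,1,1,1,2,2,3,3,2,1,2,3,0],[3,3,0,1,2,2,3,2,2,2,1,0,0,1],[1,2,2,1,2,3,0,0,0],[0,3,0,0,3,0,3,3,2,3,3,0,1,0,0,0],[1,2,3,2,2,1,2,2,1,1,2,2,2,1],[0,0,0,3,0,1,1,0,1,2,2,2,3],[2,3,0,0,1,0,0,1,1,0,0,3,0,0,0],[1,1,2,3,2,2,3,3,2,1,1,2,1,0],[3,0,1,1,2,3,0,1,2,3,2,1,0,1,2],[2,2,1,0,1,1,2,3,3,2,3,3,2,3],[3,2,3,3,2,2,3,3,2,3,0,3,2,1,0],[2,1,2,2,2,1,1,1,2,3,0,0,1,0],[2,1,1,2,2,1,0,1,1,1,2,3,3,0],[1,1,2,3,2,2,2,1,1,1,0,3,3,0,0],[1,0,0,1,1,0,0,3,2,1,1,2,2],[2,1,1,2,2,3,3,2,3,3,0,1,0,1,2],[2,3,0,0,3,2,1,0,3,0,0,3,0,1,0],[3,3,0,1,1,2,2,2,1,0,1,1,2,2,2],[1,0,1,0,3,2,2,1,1,0],[2,2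,1,2,1,1,1,0,1,0,1,2],[0,3,2,2,2,3,3,0,1,2,2,1],[0,3,2,3,0,1,1,0,1,2,1,1,2,2],[1,1,2,1,0,1,2,2,3,0,0,0,1,1,0],[3,3,2,2,2,3,0,0,0,3,2,3,0,1],[2,1,2,1,0,0,1,0,3,0,1],[3,3,0,1,1,2,2,1,1,2,1,0,3,3,2,2],[0,3,0,0,3,3,2,1,2,3,0,1,1],[2,3,0,1,0,0,3,0,1,1,2,2,3,2],[2,1,0,3,0,1,2,1,0,3,2,1,1,1,2],[3,3,2,1,0,0,1,1,0,3,3,0,1],[3,0,3,2,3,0,1,1,0,3,0,0],[0,0,1,0,0,1,1,0,1,0,0,1,1,0],[3,2,2,1,2,3,2,3,2,2,1,1,0,0],[3,0,1,2,1,1,1,0,1,0,0,0,1,0],[2,2,1,1,2,1,0,0,0,3],[0,0,1,1,0,1,1,0,0,0,1,0,3,2,2],[3,3,0,1,0,3,0,3,2,2,1,0,0,3],[0,0,0,3,0,1,0,3,0,1,1,1,2],[2,2,2,3,0,1,2,1,1,1,0,3,2,1,0],[1,2,1,0,0,3,3,2,1,1,0,3,3,2],[0,1,2,2,3,3,2,3,0,0,1,0,1,0,0,0],[0,1,0,3,3,2,3,3,2,2,1,1,2,2,1],[0,0,1,0,1,1,1,2,1,1,0,0,1],[1,1,0,1,2,2,2,3,3,2,3,3,0],[3,3,2,2,3,0,3,2,2,3,2,3,3,0,0],[0,3,3,0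,1,0,0,1,1,1,0,0,1,2],[3,0,1,2,3,2,3,0,1,1,0,1,0,3],[0,0,0,1,1,0,3,2,1,2,2,1,2,1,1],[0,1,0,0,0,1,2,3,3,2,3,3,2,1,1],[0,3,2,1,1,2,1,1,1,2,1,1,0],[0,1,0,0,0,1,0,1,0,3,0,3,0,0],[1,1,2,3,0,0,3,3,0,1,0,1,1,0,0,0],[2,1,0,1,2,2,1,0,3,2,2,3,2],[3,0,1,1,2,1,0,0,3,3,0,1,2],[0,3,3,0,3,3,2,3,2,2,1,1,0],[1,2,3,2,3,2,2,2,1,2,1,1,0],[3,0,1,2,2,1,1,2,3,3,0,1,0,3,2,2],[0,1,0,0,1,0,1,0,0,3,0,1,0,3],[1,1,0,3,0,1,0,3,0,0,1,0,3],[1,2,2,1,0,3,2,1,0,0,3,3,0,3],[0,3,2,3,0,3,3,0,3,2,1,2,3,3,0],[3,0,1,1,0,0,1,1,0,1,1,1,2],[1,0,0,3,3,0,3,2,1,1,1,0,3],[1,0,1,1,0,1,1,2,1,0,1,0,0,1,1],[0,0,3,0,1,2,3,0,3,3,0,0,1,0],[1,0,0,1,1,1,0,0,0,3,3,2,3],[2,1,2,1,1,2,3,2,1,1,0,1,0,0,1],[1,0,3,2,2,2,1,0,3,3,2,1,1],[0,0,1,1,0,3,2,1,1,2,2,3,0,3,0],[1,0,3,2,1,2,2,2,3,3,0,1,2],[0,3,0,1,2,2,1,0,1,0,1,1,2,1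],[2,2,3,2,3,3,2,3,2,2,2,3,0,1],[0,3,3,2,1,0,0,1,2,1,0,1,0,1,1],[3,0,1,0,0,3,2,1,0,3,3,0,0],[0,0,3,3,2,1,2,3,0,1,0,0,3,0],[1,2,3,3,0,1,0,1,2,1,0,1,2,3,2],[1,0,1,0,1,1,1,2,2,2,3,0,1,0],[2,2,3,0,3,2,2,3,3,0,1,1],[0,0,3,3,2,3,0,3,2,1,0,3],[1,0,1,2,3,0,1,2,3,2,1,1,0,0],[0,3,0,1,0,1,0,3,3,0,1,2],[1,0,3,3,0,1,2,1,2,2,3,3,2],[3,3,2,3,2,1,0,1,1,0,1,0,3,2],[3,3,2,1,0,0,1,2,2,3],[2,1,1,0,1,2,1,0,3,3,0,3,3,2,3],[2,3,0,1,2,3,0,1,1,2,3,2,3,0]]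
def c_Te : List Nat := [1, 2, 0, 0, 1, 1, 1, 1, 1, 2, 1, 2, 1, 0, 0, 1, 2, 0, 1, 2, 0, 0, 1, 1, 2, 0, 2, 0, 0, 1, 0, 1, 1, 0, 1, 2, 1, 1, 0, 2, 0, 2, 0, 0, 0, 2, 2, 2, 1, 2, 0, 1, 2, 1, 1, 1, 0, 1, 1, 1, 1, 2, 2, 0, 2, 2, 0, 2, 0, 2, 0, 2, 2, 2, 1, 1, 1, 2, 1, 1, 0, 2, 2, 2, 1, 2, 2, 1, 0, 2, 2, 1, 1, 1, 2, 1, 2, 0, 1, 1, 2, 0, 0, 0, 0, 2, 0, 1, 2, 1, 2, 1, 0, 1, 1, 1, 2, 1, 2, 2, 1, 1, 1, 1, 1, 2, 2, 0, 2, 2, 1, 0, 2, 2, 1, 0, 1, 0, 2, 2, 2, 0, 0, 0, 2, 2, 1, 1, 0, 1, 1, 1, 0, 2, 2, 0, 0, 1, 2, 2, 2, 2, 1, 1, 2, 0, 2, 2, 2, 2, 0, 0, 0, 0, 1, 1, 0, 0, 0, 0, 0, 2, 2, 2, 1, 2, 0, 2, 0, 0, 2, 1, 1, 1, 1, 1, 0, 0, 0, 2, 0, 0, 2, 2, 2, 0, 0, 1, 1, 2, 1, 2, 0, 0, 1, 2, 2, 2, 0, 0, 0, 2, 0, 2, 1, 0, 0, 1, 1, 2, 2, 2, 1, 2, 1, 1, 2, 1, 0, 0, 0, 0, 1, 0, 1, 0, 2, 0,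 2, 2, 2, 1, 2, 1, 0, 0, 0, 2, 1, 2, 0, 0, 2, 1, 1, 2, 0, 2, 2, 0, 1, 0, 1, 1, 0]

end Cfsg.Agent.Lib.McLCov.Tab
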